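import Groth.Agent.UnitsDefLib.Step

/-! Vanishing of the cohomology of principal units over an Artinian base, by filtering the ideal. -/

set_option autoImplicit false
set_option linter.style.haveILetI false
set_option backward.isDefEq.respectTransparency false
set_option synthInstance.maxHeartbeats 200000
set_option maxHeartbeats 1600000

universe u

open CategoryTheory CategoryTheory.Limits AlgebraicGeometry TopologicalSpace Opposite
open Groth.Agent.CohBase

noncomputable section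

namespace Groth.Agent.UnitsDefLib

theorem isNilpotent_maximalIdeal (A : Type u) [CommRing A] [IsArtinianRing A] [IsLocalRing A] :
    IsNilpotent (IsLocalRing.maximalIdeal A) := by
  have h := IsArtinianRing.isNilpotent_jacobson_bot (R := A)
  rwa [IsLocalRing.jacobson_eq_maximalIdeal ⊥ bot_ne_top] at h

theorem le_nilradical {A : Type u} [CommRing A] [IsArtinianRing A] [IsLocalRing A] {J : Ideal A}
    (hJ : J ≤ IsLocalRing.maximalIdeal A) : J ≤ nilradical A := fun x hx => by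
  obtain ⟨n, hn⟩ := isNilpotent_maximalIdeal A
  refine mem_nilradical.2 ⟨n, ?_⟩
  have h := Ideal.pow_mem_pow (hJ hx) n
  rw [hn] at h
  exact h

/-- An element generating the top step of a filtration of `J`. -/
theorem exists_step {A : Type u} [CommRing A] [IsArtinianRing A] [IsLocalRing A] {J : Ideal A}
    (hne : J ≠ ⊥) :
    ∃ (J' : Ideal A) (t : A), J' < J ∧ t ∉ J' ∧ J' ⊔ Ideal.span {t} = J ∧
      ∀ x ∈ IsLocalRing.maximalIdeal A, x * t ∈ J' := by
  have hlt : IsLocalRing.maximalIdeal A * J < J := by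
    refine lt_of_le_of_ne Ideal.mul_le_right fun h => hne ?_
    obtain ⟨n, hn⟩ := isNilpotent_maximalIdeal A
    have h2 : ∀ k, IsLocalRing.maximalIdeal A ^ k * J = J := fun k => by
      induction k with
      | zero => rw [pow_zero, one_mul]
      | succ k ih => rw [pow_succ, mul_assoc, h, ih]
    have h3 := h2 n
    rw [hn] at h3
    rw [← h3, Ideal.zero_eq_bot, Ideal.bot_mul]
  obtain ⟨J', ⟨h1, h2⟩, hmax⟩ := WellFounded.has_min (wellFounded_gt (α := Ideal A))
    {K : Ideal A | IsLocalRing.maximalIdeal A * J ≤ K ∧ K < J} ⟨_, le_rfl, hlt⟩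
  obtain ⟨t, htJ, htJ'⟩ := SetLike.exists_of_lt h2
  refine ⟨J', t, h2, htJ', le_antisymm (sup_le h2.le ((Ideal.span_singleton_le_iff_mem _).2 htJ)) ?_,
    fun x hx => h1 (Ideal.mul_mem_mul hx htJ)⟩
  by_contra hc
  refine hmax (J' ⊔ Ideal.span {t}) ⟨h1.trans le_sup_left, lt_of_le_of_ne
    (sup_le h2.le ((Ideal.span_singleton_le_iff_mem _).2 htJ)) fun h => hc h.ge⟩ ?_
  exact lt_of_le_of_ne le_sup_left fun h => htJ'
    (h ▸ Ideal.mem_sup_right (Ideal.mem_span_singleton_self t))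

theorem ker_lift_maximalIdeal {A K : Type u} [CommRing A] [IsLocalRing A] [CommRing K] {ψ : A →+* K}
    (hkψ : RingHom.ker ψ = IsLocalRing.maximalIdeal A) (I : Ideal A) [IsLocalRing (A ⧸ I)]
    (hI : I ≤ RingHom.ker ψ) :
    RingHom.ker (Ideal.Quotient.lift I ψ fun _ ha => hI ha) = IsLocalRing.maximalIdeal (A ⧸ I) := by
  ext x
  obtain ⟨a, rfl⟩ := Ideal.Quotient.mk_surjective x
  rw [RingHom.mem_ker, Ideal.Quotient.lift_mk, ← RingHom.mem_ker, hkψ, IsLocalRing.mem_maximalIdeal,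
    IsLocalRing.mem_maximalIdeal, mem_nonunits_iff, mem_nonunits_iff]
  refine ⟨fun h hu => ?_, fun h hu => h (hu.map _)⟩
  obtain ⟨b, hb⟩ := Ideal.Quotient.mk_surjective (hu.unit⁻¹ : (A ⧸ I)ˣ).1
  have h1 : a * b - 1 ∈ I := by
    rw [← Ideal.Quotient.eq_zero_iff_mem, map_sub, map_mul, map_one, hb, IsUnit.mul_val_inv, sub_self]
  rw [hkψ] at hI
  refine (IsLocalRing.maximalIdeal.isMaximal A).ne_top ((Ideal.eq_top_iff_one _).2 ?_)
  have h2 := sub_mem (Ideal.mul_mem_right b _ ((IsLocalRing.mem_maximalIdeal a).2 h)) (hI h1)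
  rwa [sub_sub_cancel] at h2

variable {A : Type u} [CommRing A] [IsArtinianRing A] [IsLocalRing A] {X' : Scheme.{u}}
  (f : X' ⟶ Spec (CommRingCat.of A)) [Flat f] {K : Type u} [CommRing K] {ψ : A →+* K}
  (hψ : Function.Surjective ψ) (hkψ : RingHom.ker ψ = IsLocalRing.maximalIdeal A)
  {X₀ : Scheme.{u}} {i₀ : X₀ ⟶ X'} {p₀ : X₀ ⟶ Spec (CommRingCat.of K)}
  (sq₀ : IsPullback i₀ p₀ f (Spec.map (CommRingCat.ofHom ψ)))

theorem mono_comap_of_bot {B : Type u} [CommRing B] {φ : A →+* B} (hφ : Function.Surjective φ)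
    (hk : RingHom.ker φ = ⊥) {X : Scheme.{u}} {j : X ⟶ X'} {p : X ⟶ Spec (CommRingCat.of B)}
    (sq : IsPullback j p f (Spec.map (CommRingCat.ofHom φ))) : Mono (UnitsSh.comap j) := by
  refine ⟨fun {Z} g h e => ?_⟩
  ext U s
  let a : Γ(X', U.unop)ˣ := Additive.toMul (g.hom.app U s)
  let b : Γ(X', U.unop)ˣ := Additive.toMul (h.hom.app U s)
  have e1 : j.app U.unop (a : Γ(X', U.unop)) = j.app U.unop (b : Γ(X', U.unop)) :=
    congrArg (fun φ : Z ⟶ (CohTop.push j.base).obj (UnitsSh.unitsAb X) =>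
      ((Additive.toMul (φ.hom.app U s) : Γ(X, j ⁻¹ᵁ U.unop)ˣ) : Γ(X, j ⁻¹ᵁ U.unop))) e
  suffices hab : (a : Γ(X', U.unop)) = b by exact congrArg Additive.ofMul (Units.ext hab)
  refine X'.sheaf.eq_of_locally_eq' (fun W : {W : X'.Opens // IsAffineOpen W ∧ W ≤ U.unop} => W.1) _
    (fun W => homOfLE W.2.2) (fun x hx => by
      obtain ⟨W, hW, hxW, hle⟩ := exists_isAffineOpen_mem_and_subset hx
      exact Opens.mem_iSup.2 ⟨⟨W, hW, hle⟩, hxW⟩) _ _ fun W => ?_
  have h1 := mem_of_app_eq_zero f φ hφ sq W.2.1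
    (b := X'.presheaf.map (homOfLE W.2.2).op ((a : Γ(X', U.unop)) - b)) (by
      rw [PicRootLib.app_res j W.2.2, map_sub, e1, sub_self, map_zero])
  rw [hk, Ideal.map_bot, Ideal.mem_bot, map_sub, sub_eq_zero] at h1
  exact h1

omit [IsArtinianRing A] [IsLocalRing A] in
theorem subsingleton_kernel_comap_comp {X P X' : Scheme.{u}} (l : X ⟶ P) (j' : P ⟶ X') (n : ℕ)
    (he : Epi (UnitsSh.comap j')) (h1 : Subsingleton (HU (⊤ : X'.Opens) (kernel (UnitsSh.comap j')) n))
    (h2 : Subsingleton (HU (⊤ : X'.Opens) (kernel ((pushS j'.base).map (UnitsSh.comap l))) n)) :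
    Subsingleton (HU (⊤ : X'.Opens) (kernel (UnitsSh.comap (l ≫ j'))) n) := by
  have hc : UnitsSh.comap (l ≫ j') = UnitsSh.comap j' ≫ (pushS j'.base).map (UnitsSh.comap l) := by
    ext U s
    refine congrArg Additive.ofMul (Units.ext ?_)
    show (l ≫ j').app U.unop ((Additive.toMul s : Γ(X', U.unop)ˣ) : Γ(X', U.unop)) =
      l.app (j' ⁻¹ᵁ U.unop) (j'.app U.unop ((Additive.toMul s : Γ(X', U.unop)ˣ) : Γ(X', U.unop)))
    rw [Scheme.Hom.comp_app]
    rfl
  have key := @subsingleton_kernel_comp _ _ _ _ _ (UnitsSh.comap j') ((pushS j'.base).map (UnitsSh.comap l)) he ⊤ n h1 h2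
  rw [hc]
  exact key

include hψ hkψ sq₀ in
/-- The cohomology of the principal units vanishes with that of the closed fibre. -/
theorem subsingleton_kernel (n : ℕ) (hvan : Subsingleton (Coh.HH X₀ (Coh.structureModule X₀) n))
    (J : Ideal A) (hJ : J ≤ IsLocalRing.maximalIdeal A) {B : Type u} [CommRing B] (φ : A →+* B)
    (hφ : Function.Surjective φ) (hk : RingHom.ker φ = J) {X : Scheme.{u}} (j : X ⟶ X')
    (p : X ⟶ Spec (CommRingCat.of B)) (sq : IsPullback j p f (Spec.map (CommRingCat.ofHom φ))) :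
    Subsingleton (HU (⊤ : X'.Opens) (kernel (UnitsSh.comap j)) n) := by
  induction J using WellFoundedLT.induction generalizing B X with
  | _ J ih => ?_
  by_cases hne : J = ⊥
  · subst hne
    haveI := mono_comap_of_bot f hφ hk sq
    refine subsingleton_of_forall_eq 0 fun x => ?_
    rw [← Abelian.Ext.comp_mk₀_id x, (IsZero.iff_id_eq_zero _).1 (Limits.isZero_kernel_of_mono (UnitsSh.comap j)),
      Abelian.Ext.mk₀_zero, Abelian.Ext.comp_zero]
  obtain ⟨J', t, hlt, htJ', hsup, hmt⟩ := exists_step hne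
  have hJ' : J' ≤ IsLocalRing.maximalIdeal A := hlt.le.trans hJ
  have hk' : J' ≤ RingHom.ker φ := hk ▸ hlt.le
  have hkψ' : J' ≤ RingHom.ker ψ := hkψ ▸ hJ'
  let π : A →+* A ⧸ J' := Ideal.Quotient.mk J'
  haveI : Nontrivial (A ⧸ J') := Ideal.Quotient.nontrivial_iff.2 fun h =>
    (IsLocalRing.maximalIdeal.isMaximal A).ne_top (top_le_iff.1 (h ▸ hJ'))
  haveI : IsLocalRing (A ⧸ J') := IsLocalRing.of_surjective' π Ideal.Quotient.mk_surjective
  let φ' : A ⧸ J' →+* B := Ideal.Quotient.lift J' φ fun _ ha => hk' ha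
  let ψ' : A ⧸ J' →+* K := Ideal.Quotient.lift J' ψ fun _ ha => hkψ' ha
  let P := pullback f (Spec.map (CommRingCat.ofHom π))
  let j' : P ⟶ X' := pullback.fst _ _
  let f' : P ⟶ Spec (CommRingCat.of (A ⧸ J')) := pullback.snd _ _
  have sq' : IsPullback j' f' f (Spec.map (CommRingCat.ofHom π)) := IsPullback.of_hasPullback _ _
  haveI : Flat f' := MorphismProperty.of_isPullback (P := @Flat) sq' ‹_›
  have hfac : ∀ {C : Type u} [CommRing C] (χ : A →+* C) (h : ∀ a ∈ J', χ a = 0),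
      Spec.map (CommRingCat.ofHom χ) =
        Spec.map (CommRingCat.ofHom (Ideal.Quotient.lift J' χ h)) ≫ Spec.map (CommRingCat.ofHom π) :=
    fun χ h => by rw [← Spec.map_comp]; rfl
  obtain ⟨l, hl1, hl2⟩ : ∃ l : X ⟶ P, l ≫ j' = j ∧ l ≫ f' = p ≫ Spec.map (CommRingCat.ofHom φ') :=
    ⟨pullback.lift j (p ≫ Spec.map (CommRingCat.ofHom φ'))
      (by rw [sq.w, Category.assoc]; exact congrArg (p ≫ ·) (hfac φ _)),
      pullback.lift_fst _ _ _, pullback.lift_snd _ _ _⟩
  obtain ⟨l₀, hl01, hl02⟩ : ∃ l₀ : X₀ ⟶ P, l₀ ≫ j' = i₀ ∧ l₀ ≫ f' = p₀ ≫ Spec.map (CommRingCat.ofHom ψ') :=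
    ⟨pullback.lift i₀ (p₀ ≫ Spec.map (CommRingCat.ofHom ψ'))
      (by rw [sq₀.w, Category.assoc]; exact congrArg (p₀ ≫ ·) (hfac ψ _)),
      pullback.lift_fst _ _ _, pullback.lift_snd _ _ _⟩
  subst hl1
  subst hl01
  have sql : IsPullback l p f' (Spec.map (CommRingCat.ofHom φ')) :=
    IsPullback.of_right (by rw [← hfac φ]; exact sq) hl2 sq'
  have sql₀ : IsPullback l₀ p₀ f' (Spec.map (CommRingCat.ofHom ψ')) :=
    IsPullback.of_right (by rw [← hfac ψ]; exact sq₀) hl02 sq'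
  have hφ's : Function.Surjective φ' := fun b => by obtain ⟨a, rfl⟩ := hφ b; exact ⟨π a, rfl⟩
  have hψ's : Function.Surjective ψ' := fun b => by obtain ⟨a, rfl⟩ := hψ b; exact ⟨π a, rfl⟩
  have hkφ' : RingHom.ker φ' = Ideal.span {π t} := by
    rw [Ideal.ker_quotient_lift, hk, ← hsup, Ideal.map_sup, Ideal.map_quotient_self, bot_sup_eq,
      Ideal.map_span, Set.image_singleton]
  have hkψ'' : RingHom.ker ψ' = IsLocalRing.maximalIdeal (A ⧸ J') := ker_lift_maximalIdeal hkψ J' hkψ'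
  have ht0 : π t ≠ 0 := fun h => htJ' (Ideal.Quotient.eq_zero_iff_mem.1 h)
  have hmt' : ∀ x ∈ IsLocalRing.maximalIdeal (A ⧸ J'), x * π t = 0 := by
    intro x hx
    obtain ⟨a, rfl⟩ := Ideal.Quotient.mk_surjective x
    rw [← hkψ'', RingHom.mem_ker, Ideal.Quotient.lift_mk, ← RingHom.mem_ker, hkψ] at hx
    rw [← map_mul]
    exact Ideal.Quotient.eq_zero_iff_mem.2 (hmt a hx)
  have htm : π t ∈ IsLocalRing.maximalIdeal (A ⧸ J') := by
    rw [← hkψ'', RingHom.mem_ker, Ideal.Quotient.lift_mk, ← RingHom.mem_ker, hkψ]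
    exact hJ (hsup ▸ Ideal.mem_sup_right (Ideal.mem_span_singleton_self t))
  have h2 : π t * π t = 0 := hmt' _ htm
  haveI : IsClosedImmersion j' := isClosedImmersion_of_sq f π Ideal.Quotient.mk_surjective sq'
  haveI : Surjective j' := surjective_of_sq f π Ideal.Quotient.mk_surjective
    (by rw [Ideal.mk_ker]; exact le_nilradical hJ') sq'
  have hprev := ih J' hlt hJ' π Ideal.Quotient.mk_surjective Ideal.mk_ker j' f' sq'
  haveI : (pushS j'.base).PreservesZeroMorphisms := ⟨fun _ _ => by ext; rfl⟩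
  haveI : (TopCat.Sheaf.pushforward AddCommGrpCat.{u} j'.base).IsRightAdjoint :=
    (TopCat.Sheaf.pullbackPushforwardAdjunction AddCommGrpCat j'.base).isRightAdjoint
  have hacy : PushAcyclic j'.base (fun V : X'.Opens => IsAffineOpen V) (kernel (UnitsSh.comap l)) :=
    fun V hV m => subsingleton_kernel_affine f' (π t) (h2 := h2) (hmt := hmt') (ht0 := ht0) (hφ := hφ's)
      (hkφ := hkφ') (hψ := hψ's) (hkψ := hkψ'') (sq := sql) (sq₀ := sql₀) (hV.preimage j') m
  obtain ⟨E⟩ := exists_kerEquiv f' (π t) (h2 := h2) (hmt := hmt') (ht0 := ht0) (hφ := hφ's)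
      (hkφ := hkφ') (hψ := hψ's) (hkψ := hkψ'') (sq := sql) (sq₀ := sql₀) n
  haveI : Subsingleton (HU (⊤ : P.Opens) (kernel (UnitsSh.comap l)) n) := E.toEquiv.subsingleton
  obtain ⟨E'⟩ := push_comparison j'.base (B := fun V : X'.Opens => IsAffineOpen V)
    (fun W y hy => by
      obtain ⟨V, hV, hyV, hVW⟩ := exists_isAffineOpen_mem_and_subset hy
      exact ⟨V, hV, hyV, hVW⟩) hacy n
  haveI : Subsingleton (HU (⊤ : X'.Opens) ((pushS j'.base).obj (kernel (UnitsSh.comap l))) n) :=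
    E'.symm.toEquiv.subsingleton
  haveI : Subsingleton (HU (⊤ : X'.Opens) (kernel ((pushS j'.base).map (UnitsSh.comap l))) n) :=
    (huIso ⊤ (PreservesKernel.iso (pushS j'.base) (UnitsSh.comap l)).symm n).toEquiv.subsingleton
  exact subsingleton_kernel_comap_comp l j' n (epi_comap j') hprev
    ‹Subsingleton (HU (⊤ : X'.Opens) (kernel ((pushS j'.base).map (UnitsSh.comap l))) n)›

end Groth.Agent.UnitsDefLib
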